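import Mathlib

/-!
# Tensor products of domains over a field have no embedded primes

If `A`, `B` are domains containing the field `k`, every (weakly) associated prime of `A ⊗[k] B` is
minimal: it stays prime in `K ⊗[k] L` (fraction fields), which is integral and flat over the domain
`E ⊗[k] L`, `E` purely transcendental with `K / E` algebraic.
-/

set_option autoImplicit false
set_option linter.style.haveILetI false

universe u

open TensorProduct

namespace Groth.Agent.TensorNoEmb

variable {k : Type u} [Field k]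

/-- a purely transcendental field tensor a field is a domain -/
theorem isDomain_transcendental {E L : Type u} [Field E] [Field L] [Algebra k E] [Algebra k L]
    {ι : Type u} (x : ι → E) (hx : AlgebraicIndependent k x)
    (hfrac : ∀ e : E, ∃ r s : MvPolynomial ι k, s ≠ 0 ∧ MvPolynomial.aeval x s * e = MvPolynomial.aeval x r) :
    IsDomain (E ⊗[k] L) := by
  classical
  haveI : Nontrivial (E ⊗[k] L) :=
    (Algebra.TensorProduct.includeLeft_injective (S := k) (A := E) (B := L)
      (algebraMap k L).injective).nontrivial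
  let ψ : MvPolynomial ι k ⊗[k] L →ₐ[k] E ⊗[k] L :=
    Algebra.TensorProduct.map (MvPolynomial.aeval x) (AlgHom.id k L)
  have hψ : Function.Injective ψ := by
    have h := Module.Flat.rTensor_preserves_injective_linearMap (M := L)
      (MvPolynomial.aeval (R := k) x).toLinearMap hx
    exact h
  let e : MvPolynomial ι k ⊗[k] L ≃ₐ[k] MvPolynomial ι L :=
    (Algebra.TensorProduct.comm k (MvPolynomial ι k) L).trans
      ((MvPolynomial.algebraTensorAlgEquiv k L).restrictScalars k)
  haveI : IsDomain (MvPolynomial ι k ⊗[k] L) := e.toRingEquiv.toMulEquiv.isDomain (MvPolynomial ι L)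
  have good : ∀ z : E ⊗[k] L, ∃ (s : MvPolynomial ι k) (a : MvPolynomial ι k ⊗[k] L), s ≠ 0 ∧
      (MvPolynomial.aeval x s) ⊗ₜ[k] (1 : L) * z = ψ a := by
    intro z
    induction z using TensorProduct.induction_on with
    | zero => exact ⟨1, 0, one_ne_zero, by rw [mul_zero, map_zero]⟩
    | tmul e l =>
      obtain ⟨r, s, hs, he⟩ := hfrac e
      refine ⟨s, r ⊗ₜ l, hs, ?_⟩
      rw [Algebra.TensorProduct.tmul_mul_tmul, one_mul, he]
      rfl
    | add z w hz hw =>
      obtain ⟨s, a, hs, ha⟩ := hz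
      obtain ⟨t, b, ht, hb⟩ := hw
      refine ⟨s * t, (t ⊗ₜ 1) * a + (s ⊗ₜ 1) * b, mul_ne_zero hs ht, ?_⟩
      have hst : (MvPolynomial.aeval x (s * t)) ⊗ₜ[k] (1 : L) =
          (MvPolynomial.aeval x s) ⊗ₜ[k] (1 : L) * ((MvPolynomial.aeval x t) ⊗ₜ[k] (1 : L)) := by
        rw [Algebra.TensorProduct.tmul_mul_tmul, one_mul, map_mul]
      rw [hst, map_add ψ, map_mul ψ, map_mul ψ, ← ha, ← hb]
      have h1 : ∀ p : MvPolynomial ι k, ψ (p ⊗ₜ[k] (1 : L)) = MvPolynomial.aeval x p ⊗ₜ[k] (1 : L) :=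
        fun p => rfl
      rw [h1, h1]
      ring
  have hu : ∀ s : MvPolynomial ι k, s ≠ 0 → IsUnit ((MvPolynomial.aeval x s) ⊗ₜ[k] (1 : L) : E ⊗[k] L) := by
    intro s hs
    have h0 : MvPolynomial.aeval x s ≠ 0 := fun h => hs (hx (h.trans (map_zero _).symm))
    exact (IsUnit.mk0 _ h0).map (Algebra.TensorProduct.includeLeft : E →ₐ[k] E ⊗[k] L)
  haveI : NoZeroDivisors (E ⊗[k] L) := ⟨fun {z w} hzw => by
    obtain ⟨s, a, hs, ha⟩ := good z
    obtain ⟨t, b, ht, hb⟩ := good w
    have hab : ψ (a * b) = 0 := by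
      rw [map_mul ψ, ← ha, ← hb, mul_mul_mul_comm, hzw, mul_zero]
    rcases mul_eq_zero.1 (hψ (hab.trans (map_zero ψ).symm)) with h | h
    · exact Or.inl ((hu s hs).mul_right_eq_zero.1 (ha.trans (by rw [h, map_zero])))
    · exact Or.inr ((hu t ht).mul_right_eq_zero.1 (hb.trans (by rw [h, map_zero])))⟩
  exact NoZeroDivisors.to_isDomain _

section

variable {E K : Type u} (L : Type u) [Field E] [Field K] [Field L] [Algebra k E] [Algebra k K]
  [Algebra E K] [IsScalarTower k E K] [Algebra k L]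

/-- the inclusion `E ⊗ L → K ⊗ L` -/
noncomputable def incl : E ⊗[k] L →ₐ[k] K ⊗[k] L :=
  Algebra.TensorProduct.map (IsScalarTower.toAlgHom k E K) (AlgHom.id k L)

theorem incl_injective : Function.Injective (incl L : E ⊗[k] L →ₐ[k] K ⊗[k] L) :=
  Module.Flat.rTensor_preserves_injective_linearMap (M := L)
    (IsScalarTower.toAlgHom k E K).toLinearMap (algebraMap E K).injective

/-- nonzero elements of the domain `E ⊗ L` are regular on `K ⊗ L` -/
theorem regular_incl [IsDomain (E ⊗[k] L)] {d : E ⊗[k] L} (hd : d ≠ 0) {m : K ⊗[k] L}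
    (h : (incl L : _ →ₐ[k] K ⊗[k] L) d * m = 0) : m = 0 := by
  let e := TensorProduct.AlgebraTensorModule.cancelBaseChange k E E K L
  let μ : (E ⊗[k] L) →ₗ[E] (E ⊗[k] L) := LinearMap.mulLeft E d
  have hμ : Function.Injective μ := fun a b hab => mul_left_cancel₀ hd hab
  have hinj := Module.Flat.lTensor_preserves_injective_linearMap (M := K) μ hμ
  have key : ∀ w : K ⊗[E] (E ⊗[k] L), e (μ.lTensor K w) = (incl L : _ →ₐ[k] K ⊗[k] L) d * e w := by
    intro w
    induction w using TensorProduct.induction_on with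
    | zero => simp only [map_zero, mul_zero]
    | add a b ha hb => simp only [map_add, mul_add, ha, hb]
    | tmul c y =>
      clear hinj hμ
      change e (c ⊗ₜ[E] (d * y)) = (incl L : _ →ₐ[k] K ⊗[k] L) d * e (c ⊗ₜ[E] y)
      clear μ h hd
      induction d using TensorProduct.induction_on with
      | zero => simp only [zero_mul, TensorProduct.tmul_zero, map_zero]
      | add a b ha hb => simp only [add_mul, TensorProduct.tmul_add, map_add, ha, hb]
      | tmul p q =>
        induction y using TensorProduct.induction_on with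
        | zero => simp only [mul_zero, TensorProduct.tmul_zero, map_zero]
        | add a b ha hb => simp only [mul_add, TensorProduct.tmul_add, map_add, ha, hb]
        | tmul r l =>
          rw [Algebra.TensorProduct.tmul_mul_tmul, TensorProduct.AlgebraTensorModule.cancelBaseChange_tmul,
            TensorProduct.AlgebraTensorModule.cancelBaseChange_tmul]
          change _ = (algebraMap E K p ⊗ₜ[k] q : K ⊗[k] L) * _
          rw [Algebra.TensorProduct.tmul_mul_tmul, Algebra.smul_def, Algebra.smul_def, map_mul,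
            mul_assoc]
  obtain ⟨w, rfl⟩ := e.surjective m
  have h2 : μ.lTensor K w = 0 := e.injective ((key w).trans (h.trans (map_zero e).symm))
  rw [hinj (h2.trans (map_zero _).symm), map_zero]

/-- `K ⊗ L` is integral over `E ⊗ L` for `K / E` algebraic -/
theorem isIntegral_incl [Algebra.IsAlgebraic E K] :
    (incl L : E ⊗[k] L →ₐ[k] K ⊗[k] L).toRingHom.IsIntegral := by
  intro z
  induction z using TensorProduct.induction_on with
  | zero => exact RingHom.isIntegralElem_zero _
  | add a b ha hb => exact RingHom.IsIntegralElem.add _ ha hb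
  | tmul c l =>
    have h1 : (incl L : E ⊗[k] L →ₐ[k] K ⊗[k] L).toRingHom.IsIntegralElem (c ⊗ₜ[k] (1 : L)) := by
      obtain ⟨p, hp, hc⟩ := (Algebra.IsAlgebraic.isAlgebraic (R := E) c).isIntegral
      refine ⟨p.map (Algebra.TensorProduct.includeLeft : E →ₐ[k] E ⊗[k] L).toRingHom, hp.map _, ?_⟩
      rw [Polynomial.eval₂_map]
      have hcomp : ((incl L : E ⊗[k] L →ₐ[k] K ⊗[k] L).toRingHom.comp
          (Algebra.TensorProduct.includeLeft : E →ₐ[k] E ⊗[k] L).toRingHom) =
          (Algebra.TensorProduct.includeLeft : K →ₐ[k] K ⊗[k] L).toRingHom.comp (algebraMap E K) :=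
        RingHom.ext fun e => rfl
      rw [hcomp]
      have := congrArg (Algebra.TensorProduct.includeLeft : K →ₐ[k] K ⊗[k] L).toRingHom hc
      rw [Polynomial.hom_eval₂, map_zero] at this
      exact this
    have h2 : (incl L : E ⊗[k] L →ₐ[k] K ⊗[k] L).toRingHom.IsIntegralElem ((1 : K) ⊗ₜ[k] l) := by
      have : ((1 : K) ⊗ₜ[k] l) = (incl L : E ⊗[k] L →ₐ[k] K ⊗[k] L).toRingHom ((1 : E) ⊗ₜ[k] l) := by
        change _ = algebraMap E K 1 ⊗ₜ[k] l
        rw [map_one]
      rw [this]
      exact RingHom.isIntegralElem_map _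
    have h3 := RingHom.IsIntegralElem.mul _ h1 h2
    rwa [Algebra.TensorProduct.tmul_mul_tmul, mul_one, one_mul] at h3

end

/-- weakly associated primes of a tensor product of two domains over a field are minimal -/
theorem eq_of_le {A B : Type u} [CommRing A] [IsDomain A] [CommRing B] [IsDomain B] [Algebra k A]
    [Algebra k B] {P Q : Ideal (A ⊗[k] B)} [P.IsPrime] [Q.IsPrime] (hQP : Q ≤ P) (r : A ⊗[k] B)
    (hr : ∀ s, s ∉ P → s * r ≠ 0) (hP : ∀ a ∈ P, ∃ (n : ℕ) (s : A ⊗[k] B), s ∉ P ∧ s * a ^ n * r = 0) :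
    Q = P := by
  classical
  let K := FractionRing A
  let L := FractionRing B
  obtain ⟨s₀, hs₀⟩ := exists_isTranscendenceBasis k K
  let ι := (s₀ : Set K)
  let E : IntermediateField k K := IntermediateField.adjoin k (Set.range ((↑) : ι → K))
  haveI : Algebra.IsAlgebraic E K := hs₀.isAlgebraic_field
  let x : ι → E := fun i => ⟨(i : K), IntermediateField.subset_adjoin k _ (Set.mem_range_self i)⟩
  have hval : ∀ p : MvPolynomial ι k,
      ((MvPolynomial.aeval x p : E) : K) = MvPolynomial.aeval ((↑) : ι → K) p := fun p =>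
    congrArg (fun φ : MvPolynomial ι k →ₐ[k] K => φ p) (MvPolynomial.comp_aeval x E.val)
  have hxi : AlgebraicIndependent k x := by
    intro p q h
    exact hs₀.1 (by rw [← hval, ← hval, h])
  haveI : IsDomain (E ⊗[k] L) := isDomain_transcendental x hxi fun e => by
    obtain ⟨p, q, he⟩ := (IntermediateField.mem_adjoin_range_iff k _ _).1 e.2
    by_cases hq : MvPolynomial.aeval ((↑) : ι → K) q = 0
    · refine ⟨0, 1, one_ne_zero, Subtype.ext ?_⟩
      rw [map_one, one_mul, map_zero, ZeroMemClass.coe_zero, he, hq, div_zero]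
    · refine ⟨p, q, fun h => hq (by rw [h, map_zero]), Subtype.ext ?_⟩
      rw [MulMemClass.coe_mul, hval, hval, he, mul_div_cancel₀ _ hq]
  let φ : A ⊗[k] B →ₐ[k] K ⊗[k] L :=
    Algebra.TensorProduct.map (IsScalarTower.toAlgHom k A K) (IsScalarTower.toAlgHom k B L)
  have hφ : Function.Injective φ := by
    have h1 := Module.Flat.rTensor_preserves_injective_linearMap (M := B)
      (IsScalarTower.toAlgHom k A K).toLinearMap (IsFractionRing.injective A K)
    have h2 := Module.Flat.lTensor_preserves_injective_linearMap (M := K)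
      (IsScalarTower.toAlgHom k B L).toLinearMap (IsFractionRing.injective B L)
    have h3 : ∀ z, φ z = ((IsScalarTower.toAlgHom k B L).toLinearMap.lTensor K)
        (((IsScalarTower.toAlgHom k A K).toLinearMap.rTensor B) z) := fun z => by
      induction z using TensorProduct.induction_on with
      | zero => simp only [map_zero]
      | add a b ha hb => simp only [map_add, ha, hb]
      | tmul a b => rfl
    intro a b hab
    rw [h3, h3] at hab
    exact h1 (h2 hab)
  -- pure tensors of nonzero elements avoid `P`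
  have havoid : ∀ (a : A) (b : B), a ≠ 0 → b ≠ 0 → (a ⊗ₜ[k] b : A ⊗[k] B) ∉ P := by
    intro a b ha hb hm
    obtain ⟨n, s, hs, h⟩ := hP _ hm
    have hu : IsUnit (φ ((a ⊗ₜ[k] b) ^ n)) := by
      rw [map_pow]
      refine IsUnit.pow n ?_
      have e1 : φ (a ⊗ₜ[k] b) = (algebraMap A K a ⊗ₜ[k] (1 : L)) * ((1 : K) ⊗ₜ[k] algebraMap B L b) := by
        rw [Algebra.TensorProduct.tmul_mul_tmul, mul_one, one_mul]; rfl
      rw [e1]
      exact ((IsUnit.mk0 _ ((map_ne_zero_iff _ (IsFractionRing.injective A K)).2 ha)).map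
        (Algebra.TensorProduct.includeLeft : K →ₐ[k] K ⊗[k] L)).mul
        ((IsUnit.mk0 _ ((map_ne_zero_iff _ (IsFractionRing.injective B L)).2 hb)).map
        (Algebra.TensorProduct.includeRight : L →ₐ[k] K ⊗[k] L))
    refine hr s hs (hφ ?_)
    have h' : φ (s * r) * φ ((a ⊗ₜ[k] b) ^ n) = 0 := by
      rw [← map_mul φ, mul_right_comm, h, map_zero]
    rw [map_zero]
    exact hu.mul_left_eq_zero.1 h'
  have good : ∀ z : K ⊗[k] L, ∃ (a : A) (b : B) (t : A ⊗[k] B), a ≠ 0 ∧ b ≠ 0 ∧
      z * φ (a ⊗ₜ b) = φ t := by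
    intro z
    induction z using TensorProduct.induction_on with
    | zero => exact ⟨1, 1, 0, one_ne_zero, one_ne_zero, by rw [zero_mul, map_zero]⟩
    | tmul c l =>
      obtain ⟨a, b, hb, rfl⟩ := IsFractionRing.div_surjective (A := A) c
      obtain ⟨a', b', hb', rfl⟩ := IsFractionRing.div_surjective (A := B) l
      refine ⟨b, b', a ⊗ₜ a', nonZeroDivisors.ne_zero hb, nonZeroDivisors.ne_zero hb', ?_⟩
      change _ * (algebraMap A K b ⊗ₜ[k] algebraMap B L b') = algebraMap A K a ⊗ₜ[k] algebraMap B L a'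
      rw [Algebra.TensorProduct.tmul_mul_tmul,
        div_mul_cancel₀ _ ((map_ne_zero_iff _ (IsFractionRing.injective A K)).2 (nonZeroDivisors.ne_zero hb)),
        div_mul_cancel₀ _ ((map_ne_zero_iff _ (IsFractionRing.injective B L)).2 (nonZeroDivisors.ne_zero hb'))]
    | add z w hz hw =>
      obtain ⟨a, b, t, ha, hb, ht⟩ := hz
      obtain ⟨a', b', t', ha', hb', ht'⟩ := hw
      refine ⟨a * a', b * b', t * (a' ⊗ₜ b') + t' * (a ⊗ₜ b), mul_ne_zero ha ha', mul_ne_zero hb hb', ?_⟩
      rw [← Algebra.TensorProduct.tmul_mul_tmul, map_mul φ, map_add φ, map_mul φ t, map_mul φ t',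
        ← ht, ← ht']
      ring
  letI : Algebra (A ⊗[k] B) (K ⊗[k] L) := φ.toRingHom.toAlgebra
  let S : Submonoid (A ⊗[k] B) := (IsUnit.submonoid (K ⊗[k] L)).comap φ.toRingHom.toMonoidHom
  haveI hloc : IsLocalization S (K ⊗[k] L) := by
    refine ⟨⟨fun s => s.2, fun z => ?_, fun {a b} h => ⟨1, by rw [hφ h]⟩⟩⟩
    obtain ⟨a, b, t, ha, hb, h⟩ := good z
    refine ⟨⟨t, ⟨a ⊗ₜ b, ?_⟩⟩, h⟩
    change IsUnit (φ (a ⊗ₜ[k] b))
    have e1 : φ (a ⊗ₜ[k] b) = (algebraMap A K a ⊗ₜ[k] (1 : L)) * ((1 : K) ⊗ₜ[k] algebraMap B L b) := by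
      rw [Algebra.TensorProduct.tmul_mul_tmul, mul_one, one_mul]; rfl
    rw [e1]
    exact ((IsUnit.mk0 _ ((map_ne_zero_iff _ (IsFractionRing.injective A K)).2 ha)).map
      (Algebra.TensorProduct.includeLeft : K →ₐ[k] K ⊗[k] L)).mul
      ((IsUnit.mk0 _ ((map_ne_zero_iff _ (IsFractionRing.injective B L)).2 hb)).map
      (Algebra.TensorProduct.includeRight : L →ₐ[k] K ⊗[k] L))
  have hdisj : Disjoint (S : Set (A ⊗[k] B)) P := by
    rw [Set.disjoint_left]
    rintro c (hc : IsUnit (φ c)) hcP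
    obtain ⟨m, hm⟩ := hc.exists_right_inv
    obtain ⟨a, b, t, ha, hb, h⟩ := good m
    refine havoid a b ha hb ?_
    have : φ (c * t) = φ (a ⊗ₜ b) := by rw [map_mul φ, ← h, ← mul_assoc, hm, one_mul]
    rw [← hφ this]
    exact P.mul_mem_right _ hcP
  have hdisjQ : Disjoint (S : Set (A ⊗[k] B)) Q := hdisj.mono_right hQP
  let P' := P.map (algebraMap (A ⊗[k] B) (K ⊗[k] L))
  let Q' := Q.map (algebraMap (A ⊗[k] B) (K ⊗[k] L))
  haveI : P'.IsPrime := IsLocalization.isPrime_of_isPrime_disjoint S _ P inferInstance hdisj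
  haveI : Q'.IsPrime := IsLocalization.isPrime_of_isPrime_disjoint S _ Q inferInstance hdisjQ
  letI : Algebra (E ⊗[k] L) (K ⊗[k] L) := (incl L : E ⊗[k] L →ₐ[k] K ⊗[k] L).toRingHom.toAlgebra
  haveI : Algebra.IsIntegral (E ⊗[k] L) (K ⊗[k] L) := ⟨isIntegral_incl (E := E) (K := K) L⟩
  have hbot : P'.comap (algebraMap (E ⊗[k] L) (K ⊗[k] L)) = ⊥ := by
    refine (Submodule.eq_bot_iff _).2 fun d hd => ?_
    by_contra hd0
    obtain ⟨⟨⟨t, ht⟩, c⟩, htc⟩ := (IsLocalization.mem_map_algebraMap_iff S _).1 hd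
    obtain ⟨n, s, hs, h⟩ := hP t ht
    refine hr s hs (hφ ?_)
    rw [map_zero]
    have h1 : φ (s * r) * φ t ^ n = 0 := by
      rw [← map_pow φ, ← map_mul φ, mul_right_comm, h, map_zero]
    have h2 : (incl L : E ⊗[k] L →ₐ[k] K ⊗[k] L) (d ^ n) * (φ c.1 ^ n * φ (s * r)) = 0 := by
      rw [map_pow, ← mul_assoc, ← mul_pow, show (incl L : E ⊗[k] L →ₐ[k] K ⊗[k] L) d * φ c.1 = φ t from htc,
        _root_.mul_comm]
      exact h1
    exact ((show IsUnit (φ c.1) from c.2).pow n).mul_right_eq_zero.1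
      (regular_incl (E := E) (K := K) L (pow_ne_zero n hd0) h2)
  have hle : Q' ≤ P' := Ideal.map_mono hQP
  have heq : Q' = P' := by
    rcases eq_or_lt_of_le hle with h | h
    · exact h
    · have h1 := Ideal.IsIntegral.comap_lt_comap (R := E ⊗[k] L) h
      rw [hbot] at h1
      exact absurd h1 not_lt_bot
  rw [← IsLocalization.under_map_of_isPrime_disjoint S (K ⊗[k] L) ‹Q.IsPrime› hdisjQ,
    ← IsLocalization.under_map_of_isPrime_disjoint S (K ⊗[k] L) ‹P.IsPrime› hdisj]
  exact congrArg (fun I => Ideal.under _ I) heq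

end Groth.Agent.TensorNoEmb
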